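import Groth.Agent.KTheory.OpenLocalization
import Groth.Agent.KTheory.ClosureSheaf
import Groth.Agent.HilbStab.Scalar
import Mathlib.AlgebraicGeometry.AffineSpace
import Mathlib.FieldTheory.RatFunc.AsPolynomial

/-!
Classes of coherent modules on the affine line supported on the zero section vanish in `K₀`.
-/

set_option autoImplicit false
universe u

open CategoryTheory CategoryTheory.Limits AlgebraicGeometry TopologicalSpace
open Groth.CohTwo Groth.QCohMod

namespace Groth.GmRestr

variable (X : Scheme.{u})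

/-- The affine line. -/
noncomputable abbrev A1 : Scheme.{u} := 𝔸(ULift.{u} (Fin 1); X)

/-- The projection. -/
noncomputable abbrev p : A1 X ⟶ X := 𝔸(ULift.{u} (Fin 1); X) ↘ X

/-- The coordinate. -/
noncomputable abbrev t : Γ(A1 X, ⊤) := AffineSpace.coord X (ULift.up (0 : Fin 1))

/-- The zero section. -/
noncomputable abbrev s : X ⟶ A1 X := AffineSpace.homOfVector (𝟙 X) (fun _ => 0)

variable {X}

theorem s_p : s X ≫ p X = 𝟙 X := AffineSpace.homOfVector_over _ _

theorem p_s (x : X) : p X (s X x) = x := by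
  change (s X ≫ p X) x = x
  rw [s_p]; rfl

theorem hom_eq {T : Scheme.{u}} (q : T ⟶ A1 X) (hq : q.appTop (t X) = 0) : q = q ≫ p X ≫ s X := by
  refine AffineSpace.hom_ext ?_ fun i => ?_
  · rw [Category.assoc, Category.assoc, s_p, Category.comp_id]
  · obtain ⟨i⟩ := i
    rw [Subsingleton.elim i 0, hq]
    rw [Scheme.Hom.comp_appTop, CommRingCat.comp_apply, Scheme.Hom.comp_appTop, CommRingCat.comp_apply,
      AffineSpace.homOfVector_appTop_coord, map_zero, map_zero]

theorem mem_range_s {z : A1 X} (hz : z ∉ (A1 X).basicOpen (t X)) : s X (p X z) = z := by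
  let q := (A1 X).fromSpecResidueField z
  have hq : q.appTop (t X) = 0 := by
    by_contra h
    obtain ⟨w⟩ := (inferInstance : Nonempty ↥(Spec ((A1 X).residueField z)))
    have hu : IsUnit (q.appTop (t X)) := by
      have hf : IsField Γ(Spec ((A1 X).residueField z), ⊤) :=
        (Scheme.ΓSpecIso ((A1 X).residueField z)).commRingCatIsoToRingEquiv.toMulEquiv.isField
          (Field.toIsField _)
      letI := hf.toField
      exact isUnit_iff_ne_zero.2 h
    have hw : w ∈ (Spec _).basicOpen (q.appTop (t X)) := by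
      rw [Scheme.basicOpen_of_isUnit _ hu]; trivial
    rw [← Scheme.preimage_basicOpen_top] at hw
    refine hz ?_
    have : q w = z := Scheme.fromSpecResidueField_apply z w
    rwa [Scheme.Hom.mem_preimage, this] at hw
  have e := congrArg (fun f : Spec ((A1 X).residueField z) ⟶ A1 X => f (Classical.arbitrary _)) (hom_eq q hq)
  simp only [Scheme.Hom.comp_apply, q, Scheme.fromSpecResidueField_apply] at e
  exact e.symm

theorem s_not_mem_basicOpen (x : X) : s X x ∉ (A1 X).basicOpen (t X) := fun h => by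
  have : x ∈ s X ⁻¹ᵁ (A1 X).basicOpen (t X) := h
  rw [Scheme.preimage_basicOpen_top, AffineSpace.homOfVector_appTop_coord] at this
  simp at this

/-- The generic point of the fibre over `x`. -/
theorem exists_fibre_generic (x : X) :
    ∃ η : A1 X, p X η = x ∧ η ⤳ s X x ∧ η ∈ (A1 X).basicOpen (t X) := by
  let K := X.residueField x
  let R := CommRingCat.of (Polynomial K)
  let f : Spec R ⟶ X := Spec.map (CommRingCat.ofHom (Polynomial.C : K →+* Polynomial K)) ≫ X.fromSpecResidueField x
  let G : Spec R ⟶ A1 X := AffineSpace.homOfVector f (fun _ => (Scheme.ΓSpecIso R).inv Polynomial.X)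
  have hp : ∀ w, p X (G w) = x := fun w => by
    change (G ≫ p X) w = x
    rw [AffineSpace.homOfVector_over, Scheme.Hom.comp_apply, Scheme.fromSpecResidueField_apply]
  have hpre : G ⁻¹ᵁ (A1 X).basicOpen (t X) = PrimeSpectrum.basicOpen (Polynomial.X : Polynomial K) := by
    rw [Scheme.preimage_basicOpen_top, AffineSpace.homOfVector_appTop_coord]
    exact basicOpen_eq_of_affine _
  let b : Spec R := (⟨(⊥ : Ideal (Polynomial K)), Ideal.isPrime_bot⟩ : PrimeSpectrum (Polynomial K))
  let c : Spec R := (⟨Ideal.span {(Polynomial.X : Polynomial K)},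
    (Ideal.span_singleton_prime Polynomial.X_ne_zero).2 Polynomial.prime_X⟩ : PrimeSpectrum (Polynomial K))
  have hb : G b ∈ (A1 X).basicOpen (t X) := by
    change b ∈ G ⁻¹ᵁ (A1 X).basicOpen (t X)
    rw [hpre]
    exact fun h => Polynomial.X_ne_zero ((Submodule.mem_bot _).1 h)
  have hc : G c ∉ (A1 X).basicOpen (t X) := fun h => by
    change c ∈ G ⁻¹ᵁ (A1 X).basicOpen (t X) at h
    rw [hpre] at h
    exact h (Ideal.mem_span_singleton_self _)
  have hbc : b ⤳ c := (PrimeSpectrum.le_iff_specializes (R := Polynomial K) _ _).1 (bot_le (a := c.asIdeal))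
  have hcx : G c = s X x := by rw [← mem_range_s hc, hp]
  exact ⟨G b, hp b, hcx ▸ hbc.map G.continuous, hb⟩

/-- Modulo the coordinate, a function equals the pull back of its restriction to the zero section. -/
theorem sub_mem_span {U : (A1 X).Opens} (hU : IsAffineOpen U) {V : X.Opens} (hV : IsAffineOpen V)
    (hUV : U ≤ p X ⁻¹ᵁ V) (hVU : V ≤ s X ⁻¹ᵁ U) (a : Γ(A1 X, U)) :
    a - (p X).appLE V U hUV ((s X).appLE U V hVU a) ∈
      Ideal.span {(A1 X).presheaf.map (homOfLE (le_top : U ≤ ⊤)).op (t X)} := by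
  let I := Ideal.span {(A1 X).presheaf.map (homOfLE (le_top : U ≤ ⊤)).op (t X)}
  let π : Γ(A1 X, U) ⟶ CommRingCat.of (Γ(A1 X, U) ⧸ I) := CommRingCat.ofHom (Ideal.Quotient.mk I)
  let q := Spec.map π ≫ hU.fromSpec
  have hq : q.appTop (t X) = 0 := by
    have h1 : hU.fromSpec.appTop (t X) =
        (Scheme.ΓSpecIso Γ(A1 X, U)).inv ((A1 X).presheaf.map (homOfLE (le_top : U ≤ ⊤)).op (t X)) := by
      rw [Scheme.Hom.appTop, hU.fromSpec_app_of_le ⊤ le_top]
      exact congrArg (fun f : Γ(Spec Γ(A1 X, U), ⊤) ⟶ Γ(Spec Γ(A1 X, U), ⊤) => f ((Scheme.ΓSpecIso Γ(A1 X, U)).inv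
        ((A1 X).presheaf.map (homOfLE (le_top : U ≤ ⊤)).op (t X)))) ((Spec Γ(A1 X, U)).presheaf.map_id _)
    rw [Scheme.Hom.comp_appTop, CommRingCat.comp_apply, h1]
    have h2 := congrArg (fun f : Γ(A1 X, U) ⟶ _ => f ((A1 X).presheaf.map (homOfLE (le_top : U ≤ ⊤)).op (t X)))
      (Scheme.ΓSpecIso_inv_naturality π)
    refine (Eq.trans ?_ h2.symm).trans ?_
    · rfl
    · simp only [CommRingCat.comp_apply]
      rw [show π ((A1 X).presheaf.map (homOfLE (le_top : U ≤ ⊤)).op (t X)) = 0 from
        Ideal.Quotient.eq_zero_iff_mem.2 (Ideal.subset_span rfl), map_zero]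
  have h3 := hom_eq q hq
  have e : q ≫ p X ≫ s X =
      Spec.map ((s X).appLE U V hVU ≫ (p X).appLE V U hUV ≫ π) ≫ hU.fromSpec := by
    simp only [q, Category.assoc, Spec.map_comp]
    rw [IsAffineOpen.SpecMap_appLE_fromSpec _ hU hV, IsAffineOpen.SpecMap_appLE_fromSpec_assoc _ hV hU]
  rw [e] at h3
  have h4 := Spec.map_injective ((cancel_mono hU.fromSpec).1 h3)
  refine Ideal.Quotient.eq.1 ?_
  exact congrArg (fun f : Γ(A1 X, U) ⟶ _ => f a) h4

section

variable [IsNoetherian X]

instance : IsNoetherian (A1 X) where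
  __ := LocallyOfFiniteType.isLocallyNoetherian (p X)
  __ := QuasiCompact.compactSpace_of_compactSpace (p X)

theorem clSub_closure_eq_zero (x : X) : ∃ F : (A1 X).Modules, Coh.IsCoh F ∧
    CohB1.support F ⊆ closure {s X x} ∧
    Module.length ((A1 X).presheaf.stalk (s X x)) (F.presheaf.stalk (s X x)) = 1 ∧
    Groth.Misc13.KNilp.kc F = 0 := by
  classical
  obtain ⟨η, hpη, hspec, hηt⟩ := exists_fibre_generic x
  let I := IntMult.ptIdeal η
  let i := I.subschemeι
  let E : (A1 X).Modules := Cyc.closureStructureSheaf η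
  have : IsIntegral I.subscheme := isIntegral_closure_subscheme (ξ := η) rfl
  have hE : Coh.IsCoh E := Groth.KTheory.Devissage.isCoh_closureStructureSheaf η
  have hrange : Set.range i = closure {η} :=
    Groth.PropsBasic2.range_vanishingIdeal_subschemeι ⟨closure {η}, isClosed_closure⟩
  obtain ⟨z₀, hz₀⟩ : η ∈ Set.range i := hrange ▸ subset_closure rfl
  let φ : E ⟶ E := Groth.HilbStab.scalar (t X) E
  have hφ : ∀ (V : (A1 X).Opens) (a : Γ(E, V)), φ.app V a =
      (A1 X).presheaf.map (homOfLE (le_top : V ≤ ⊤)).op (t X) • a := fun V a =>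
    Groth.HilbStab.scalar_app _ _ V a
  have hmono : Mono φ := by
    have : Mono ((Scheme.Modules.toPresheaf _).map φ) := by
      haveI : ∀ V, Mono (((Scheme.Modules.toPresheaf _).map φ).app V) := fun V => by
        refine (AddCommGrpCat.mono_iff_injective _).2 ?_
        refine (injective_iff_map_eq_zero (φ.app V.unop).hom).2 fun a ha => ?_
        replace ha := (hφ V.unop a).symm.trans ha
        by_cases hne : Nonempty ↥(i ⁻¹ᵁ V.unop)
        · obtain ⟨⟨z, hz⟩⟩ := hne
          have hηV : η ∈ V.unop := by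
            have : η ⤳ i z := specializes_iff_mem_closure.2 (hrange ▸ Set.mem_range_self z)
            exact this.mem_open V.unop.2 hz
          haveI : Nonempty ↥((i ⁻¹ᵁ V.unop : I.subscheme.Opens) : Scheme.{u}) := ⟨⟨z, hz⟩⟩
          haveI : IsDomain Γ(I.subscheme, i ⁻¹ᵁ V.unop) := IsIntegral.component_integral _
          let τ := i.app V.unop ((A1 X).presheaf.map (homOfLE (le_top : V.unop ≤ ⊤)).op (t X))
          have hτ : τ ≠ 0 := fun h => by
            have hm : z₀ ∈ I.subscheme.basicOpen τ := by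
              rw [← Scheme.preimage_basicOpen, Scheme.Hom.mem_preimage, hz₀, Scheme.basicOpen_res]
              exact ⟨hηV, hηt⟩
            rw [h, Scheme.basicOpen_zero] at hm
            exact hm
          change τ * (show Γ(I.subscheme, i ⁻¹ᵁ V.unop) from a) = 0 at ha
          exact (mul_eq_zero.1 ha).resolve_left hτ
        · have hbot : i ⁻¹ᵁ V.unop = ⊥ := by
            ext z
            simpa using fun hz => hne ⟨⟨z, hz⟩⟩
          haveI : Subsingleton Γ(I.subscheme, i ⁻¹ᵁ V.unop) := by rw [hbot]; infer_instance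
          exact Subsingleton.elim (α := Γ(I.subscheme, i ⁻¹ᵁ V.unop)) a 0
      exact NatTrans.mono_of_mono_app _
    exact (Scheme.Modules.toPresheaf _).mono_of_mono_map this
  haveI := hE.1
  let C := cokernel φ
  have hC : Coh.IsCoh C := Groth.QCohMod.isCoh_cokernel φ hE
  have hses : (ShortComplex.mk φ (cokernel.π φ) (cokernel.condition φ)).ShortExact :=
    { exact := ShortComplex.exact_of_g_is_cokernel _ (cokernelIsCokernel φ)
      mono_f := hmono
      epi_g := inferInstanceAs (Epi (cokernel.π φ)) }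
  refine ⟨C, hC, ?_, ?_, ?_⟩
  rotate_right
  · have := Groth.KTheory.clSub_rel (P := fun M : (A1 X).Modules => Coh.IsCoh M) _ hses hE hE hC
    change Groth.Misc13.KNilp.kc E = Groth.Misc13.KNilp.kc E + Groth.Misc13.KNilp.kc C at this
    exact left_eq_add.1 this
  · intro z hz
    have h1 : z ∈ closure {η} := by
      have h := Groth.KTheory.Devissage.support_subset_of_epi (cokernel.π φ) hz
      exact Groth.KTheory.Devissage.support_closureStructureSheaf_subset η h
    have h2 : z ∉ (A1 X).basicOpen (t X) := fun hb => by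
      refine Groth.KTheory.Devissage.subsingleton_cokernel_stalk φ z ?_ hz
      intro w
      have hu : IsUnit ((A1 X).presheaf.germ ⊤ z trivial (t X)) := (Scheme.mem_basicOpen_top _ _ _).mp hb
      refine ⟨hu.unit⁻¹.1 • (show E.presheaf.stalk z from w), ?_⟩
      obtain ⟨U, hzU, e, he⟩ := Groth.QCohMod.exists_germ E z
        (hu.unit⁻¹.1 • (show E.presheaf.stalk z from w))
      refine (congrArg ((stalk z).map φ) he.symm).trans ((Groth.QCohMod.stalk_map_germ φ z hzU e).trans ?_)
      rw [hφ, Groth.QCohMod.germ_smul, he, TopCat.Presheaf.germ_res_apply, smul_smul]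
      rw [IsUnit.mul_val_inv, one_smul]
    rw [← mem_range_s h2]
    have h3 : p X z ∈ closure {x} := by
      have := h1
      rw [← specializes_iff_mem_closure] at this ⊢
      exact hpη ▸ this.map (p X).continuous
    rw [← specializes_iff_mem_closure] at h3 ⊢
    exact h3.map (s X).continuous
  · let y := s X x
    obtain ⟨_, ⟨V, hV, rfl⟩, hxV, -⟩ := X.isBasis_affineOpens.exists_subset_of_mem_open
      (Set.mem_univ x) isOpen_univ
    let U := p X ⁻¹ᵁ V
    have hU : IsAffineOpen U := hV.preimage (p X)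
    have hy : y ∈ U := by
      change p X (s X x) ∈ V
      rw [p_s]; exact hxV
    have hVU : V ≤ s X ⁻¹ᵁ U := fun w hw => by
      change p X (s X w) ∈ V
      rw [p_s]; exact hw
    let e : Γ(E, U) := show Γ(I.subscheme, i ⁻¹ᵁ U) from 1
    have hgen : ∀ m : Γ(E, U), ∃ r : Γ(A1 X, U), m = r • e := fun m => by
      obtain ⟨r, hr⟩ := i.app_surjective U hU (show Γ(I.subscheme, i ⁻¹ᵁ U) from m)
      refine ⟨r, ?_⟩
      change (show Γ(I.subscheme, i ⁻¹ᵁ U) from m) = i.app U r * 1
      rw [mul_one]; exact hr.symm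
    let R := (A1 X).presheaf.stalk y
    let ge : E.presheaf.stalk y := Groth.QCohMod.germ E y hy e
    have hcyc : ∀ w : E.presheaf.stalk y, ∃ a : R, w = a • ge := fun w =>
      Groth.KTheory.Devissage.exists_germ_eq_of_affine y E hU hy e hgen w
    let tU := (A1 X).presheaf.map (homOfLE (le_top : U ≤ ⊤)).op (t X)
    let ty : R := (A1 X).presheaf.germ U y hy tU
    have hφy : ∀ a : R, (stalk y).map φ (a • ge) = (a * ty) • ge := fun a => by
      obtain ⟨W, hyW, m, hm⟩ := Groth.QCohMod.exists_germ E y (a • ge)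
      rw [← hm]
      refine (Groth.QCohMod.stalk_map_germ φ y hyW m).trans ?_
      rw [hφ, Groth.QCohMod.germ_smul, hm, smul_smul, mul_comm]
      congr 2
      simp only [ty, tU, TopCat.Presheaf.germ_res_apply]
    have htm : ¬ IsUnit ty := fun h => s_not_mem_basicOpen x (by
      have := (Scheme.mem_basicOpen _ tU y hy).mpr h
      rw [Scheme.basicOpen_res] at this
      exact this.2)
    have hge : ∀ a : R, ty * a ≠ 1 := fun a h => htm (IsUnit.of_mul_eq_one _ h)
    have hgne : ge ≠ 0 := by
      intro h0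
      obtain ⟨z, hz⟩ : y ∈ Set.range i := hrange ▸ specializes_iff_mem_closure.1 hspec
      have hzU : i z ∈ U := hz.symm ▸ hy
      have h1 : Groth.QCohMod.germ E (i z) hzU e = 0 := by
        have key : ∀ (w : A1 X) (hw : w ∈ U), w = y → Groth.QCohMod.germ E w hw e = 0 := by
          rintro w hw rfl; exact h0
        exact key _ hzU hz
      have h2 := (pushStalk_germ i (Coh.structureModule _) z hzU e).symm.trans
        ((congrArg (pushStalk i (Coh.structureModule _) z) h1).trans (map_zero _))
      refine one_ne_zero (α := I.subscheme.presheaf.stalk z) ((bijective_toSpanSingleton_one z).1 ?_)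
      rw [LinearMap.toSpanSingleton_apply, one_smul, map_zero, ← h2]
      refine (stalk_germ_res (Coh.structureModule I.subscheme) z (le_top : i ⁻¹ᵁ U ≤ ⊤) hzU _).symm.trans ?_
      congr 1
      exact map_one (resR I.subscheme (le_top : i ⁻¹ᵁ U ≤ ⊤))
    have hkill : ∀ g : Γ(X, V), x ∉ X.basicOpen g → (p X).appLE V U le_rfl g • e = 0 := fun g hg => by
      change i.app U ((p X).appLE V U le_rfl g) * 1 = 0
      rw [mul_one]
      apply basicOpen_eq_bot_iff _ |>.1
      rw [← Scheme.preimage_basicOpen, Scheme.basicOpen_appLE]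
      ext z
      simp only [Scheme.Hom.mem_preimage, Opens.coe_bot, Set.mem_empty_iff_false, iff_false,
        SetLike.mem_coe]
      intro hz
      have hs : η ⤳ i z := specializes_iff_mem_closure.2 (hrange ▸ Set.mem_range_self z)
      have := (hs.map (p X).continuous).mem_open (X.basicOpen g).2 hz.2
      rw [hpη] at this
      exact hg this
    let π' := (stalk y).map (cokernel.π φ)
    let f : R →ₗ[R] C.presheaf.stalk y :=
      LinearMap.toSpanSingleton R (C.presheaf.stalk y) (Groth.QCohMod.germ C y hy ((cokernel.π φ).app U e))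
    have hπ : ∀ a : R, π' (a • ge) = f a := fun a => by
      obtain ⟨U', hyU', r, rfl⟩ := TopCat.Presheaf.exists_germ_eq _ a
      refine (Groth.QCohMod.stalk_map_germ_smul (cokernel.π φ) y hyU' r ge).trans ?_
      exact congrArg (fun w : C.presheaf.stalk y => (A1 X).presheaf.germ U' y hyU' r • w)
        (Groth.QCohMod.stalk_map_germ (cokernel.π φ) y hy e)
    have hfs : Function.Surjective f := fun w => by
      obtain ⟨v, rfl⟩ := (Groth.QCohMod.epi_iff_stalk (cokernel.π φ)).1 inferInstance y w
      obtain ⟨a, ha⟩ := hcyc v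
      exact ⟨a, by rw [← hπ, ← ha]⟩
    have hker : LinearMap.ker f = IsLocalRing.maximalIdeal R := by
      refine ((IsLocalRing.maximalIdeal.isMaximal _).eq_of_le ?_ ?_).symm
      · intro h
        have h1 : π' ge = 0 := by
          have : (1 : R) ∈ LinearMap.ker f := h ▸ trivial
          rw [LinearMap.mem_ker, ← hπ, one_smul] at this
          exact this
        have hex := ((Groth.QCohMod.exact_iff_stalk _).1 hses.exact y)
        rw [ShortComplex.ab_exact_iff] at hex
        obtain ⟨w, hw⟩ := hex ge h1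
        obtain ⟨a, ha⟩ := hcyc w
        change (stalk y).map φ w = ge at hw
        rw [ha, hφy] at hw
        have h2 : (1 - a * ty) • ge = 0 := by rw [sub_smul, one_smul, hw, sub_self]
        have hu : IsUnit (1 - a * ty) :=
          IsLocalRing.isUnit_one_sub_self_of_mem_nonunits _ fun h => htm (isUnit_of_mul_isUnit_right h)
        exact hgne (hu.smul_eq_zero.1 h2)
      · letI : Algebra Γ(A1 X, U) R := ((A1 X).presheaf.germ U y hy).hom.toAlgebra
        haveI : IsLocalization.AtPrime R (hU.primeIdealOf ⟨y, hy⟩).asIdeal := hU.isLocalization_stalk ⟨y, hy⟩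
        rw [← IsLocalization.AtPrime.map_eq_maximalIdeal (hU.primeIdealOf ⟨y, hy⟩).asIdeal R, Ideal.map_le_iff_le_comap]
        intro a ha
        have hg : x ∉ X.basicOpen ((s X).appLE U V hVU a) := fun h => by
          rw [Scheme.basicOpen_appLE] at h
          have hgu : IsUnit ((A1 X).presheaf.germ U y hy a) := (Scheme.mem_basicOpen _ a y hy).mp h.2
          exact (IsLocalRing.mem_maximalIdeal _).1
            ((IsLocalization.AtPrime.to_map_mem_maximal_iff R (hU.primeIdealOf ⟨y, hy⟩).asIdeal a).2 ha) hgu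
        obtain ⟨c, hc⟩ := Ideal.mem_span_singleton.1 (sub_mem_span hU hV le_rfl hVU a)
        rw [Ideal.mem_comap, LinearMap.mem_ker, ← hπ]
        change π' ((A1 X).presheaf.germ U y hy a • ge) = 0
        rw [← sub_add_cancel a ((p X).appLE V U le_rfl ((s X).appLE U V hVU a)), hc, map_add, add_smul,
          ← Groth.QCohMod.germ_smul (r := (p X).appLE V U le_rfl _), hkill _ hg, map_zero, add_zero,
          map_mul, mul_comm, ← hφy]
        exact congr($(((ShortComplex.mk φ (cokernel.π φ) (cokernel.condition φ)).map (stalk y)).zero) _)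
    rw [← (f.quotKerEquivOfSurjective hfs).length_eq, hker, Module.length_eq_one_iff]
    exact isSimpleModule_iff_quot_maximal.mpr ⟨_, inferInstance, ⟨LinearEquiv.refl _ _⟩⟩

theorem supSub_eq_bot :
    Groth.Misc13.KNilp.supSub (X := A1 X) (((A1 X).basicOpen (t X) : Set (A1 X))ᶜ) = ⊥ := by
  rw [eq_bot_iff, Groth.Misc13.KNilp.supSub, AddSubgroup.closure_le]
  rintro _ ⟨G, hG, hs, rfl⟩
  let W : Set (A1 X) := ((A1 X).basicOpen (t X) : Set (A1 X))ᶜ
  let P := Groth.KTheory.Devissage.cohSupp (X := A1 X) W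
  let μ : KZero.K0sub P →+ SGA6.Kcoh (A1 X) :=
    Groth.KTheory.liftSub P Groth.Misc13.KNilp.kc fun S hS h1 h2 h3 =>
      Groth.KTheory.clSub_rel (P := fun M : (A1 X).Modules => Coh.IsCoh M) S hS h1.1 h2.1 h3.1
  have htop : μ.ker = ⊤ := by
    refine Groth.KTheory.Devissage.closure_eq_top W ((A1 X).basicOpen (t X)).2.isClosed_compl μ.ker ?_
    intro y hy
    obtain ⟨F, hF, hFs, hFl, hF0⟩ := clSub_closure_eq_zero (p X y)
    have hyW : y ∉ (A1 X).basicOpen (t X) := hy (subset_closure rfl)
    rw [mem_range_s hyW] at hFs hFl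
    refine ⟨F, hF, hFs, hFl, ?_⟩
    rw [AddMonoidHom.mem_ker]
    exact (Groth.KTheory.liftSub_clSub (P := P) _ _ ⟨hF, hFs.trans hy⟩).trans hF0
  have := (Groth.KTheory.liftSub_clSub (P := P) Groth.Misc13.KNilp.kc (fun S hS h1 h2 h3 =>
      Groth.KTheory.clSub_rel (P := fun M : (A1 X).Modules => Coh.IsCoh M) S hS h1.1 h2.1 h3.1) (X := G) ⟨hG, hs⟩).symm
  rw [SetLike.mem_coe, AddSubgroup.mem_bot, this]
  exact AddMonoidHom.mem_ker.1 (htop ▸ trivial : KZero.clSub P G ∈ μ.ker)

end

end Groth.GmRestr
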